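import Cfsg.Agent.Lib.ProjLift.Linear
import Cfsg.Agent.Lib.ChevLift.Combos
import Cfsg.Agent.Lib.ChevLift.All

/-!
Projective representations of Chevalley groups over finite fields in the natural characteristic lift: two root
subgroups which are not opposite lie in a finite `p`-subgroup.
-/

set_option autoImplicit false
set_option linter.unusedSectionVars false

namespace Cfsg.Agent.Lib.ProjLift

open Cfsg.Lie
open Cfsg.Agent.Lib.ChevStructure
open Cfsg.Agent.Lib.CurtisTits
open Cfsg.Agent.Lib.ChevLift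

universe u

variable {D : ChevalleyDatum} (C : Core D)

theorem exists_word_pos (r : Rt D) : ∀ s : Rt D, s ≠ r.rev →
    ∃ M : List (Fin D.rank), C.pprod M r ∈ C.Pos ∧ C.pprod M s ∈ C.Pos := by
  refine C.ind (fun r => ∀ s : Rt D, s ≠ r.rev →
    ∃ M : List (Fin D.rank), C.pprod M r ∈ C.Pos ∧ C.pprod M s ∈ C.Pos) (fun i s hs => ?_) (fun i r ih s hs => ?_) r
  · by_cases hpos : s ∈ C.Pos
    · exact ⟨[], C.p_pos i, hpos⟩
    have hsn : s ∈ C.Neg := (C.neg_iff_not_pos s).2 hpos
    have hw : C.w i s ∈ C.Neg := by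
      have h' : C.w i s.rev ∈ C.Pos := C.w_pos (C.rev_pos hsn) fun e => hs (by rw [← e, Fin.rev_rev])
      rw [C.w_rev] at h'
      simpa using C.rev_neg h'
    have hpn : C.w i (C.p i) ∈ C.Neg := by
      have hv : C.v (C.w i (C.p i)) = C.v (C.p i).rev := by
        rw [C.v_w, C.v_rev]
        have : A D i (C.p i) = 2 := by
          have := C.pr_self (C.p i)
          simpa [pr, C.co_p, Pi.single_apply] using this
        rw [this, C.v_p]
        module
      have e : C.w i (C.p i) = (C.p i).rev :=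
        C.phi_strict.injective (show phi _ = phi _ by rw [hv])
      rw [e]
      exact C.rev_neg (C.p_pos i)
    obtain ⟨L, hL⟩ := C.exists_longest
    refine ⟨L ++ [i], ?_, ?_⟩ <;> rw [C.pprod_concat, Equiv.Perm.mul_apply, C.sref_apply]
    · have := C.rev_pos (hL _ (C.rev_pos hpn))
      rwa [C.pprod_rev, Fin.rev_rev] at this
    · have := C.rev_pos (hL _ (C.rev_pos hw))
      rwa [C.pprod_rev, Fin.rev_rev] at this
  · obtain ⟨M, h1, h2⟩ := ih (C.w i s) fun e => hs (by rw [← C.w_w i s, e, C.w_rev])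
    refine ⟨M ++ [i], ?_, ?_⟩ <;> rw [C.pprod_concat, Equiv.Perm.mul_apply, C.sref_apply]
    · rwa [C.w_w]
    · exact h2

theorem pos_between {M : List (Fin D.rank)} {r s q : Rt D} (hr : C.pprod M r ∈ C.Pos) (hs : C.pprod M s ∈ C.Pos)
    (hq : Between C r s q) : C.pprod M q ∈ C.Pos := by
  obtain ⟨a, b, ha, hb, e⟩ := hq
  have hv : C.v (C.pprod M q) = (a : ℤ) • C.v (C.pprod M r) + (b : ℤ) • C.v (C.pprod M s) := by
    funext m
    simp only [Pi.add_apply, Pi.smul_apply, smul_eq_mul, C.pprod_v M q m, C.pprod_v M r m, C.pprod_v M s m, e,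
      Finset.mul_sum, ← Finset.sum_add_distrib]
    exact Finset.sum_congr rfl fun k _ => by ring
  rw [C.pos_iff_ht] at hr hs ⊢
  rw [C.ht_combo hv]
  have : (1 : ℤ) ≤ a := by exact_mod_cast ha
  have : (1 : ℤ) ≤ b := by exact_mod_cast hb
  nlinarith

variable {K : Type*} [Field K] [Finite K] {L : Type*} [Field L] {p : ℕ} [hp : Fact p.Prime] [CharP L p] {n : ℕ}

/-- Two non-opposite root subgroups lie in a finite `p`-subgroup of the image. -/
theorem exists_pgroup (hok : CommOK C) {e : ℕ} (hK : Nat.card K = p ^ e) {H : Type*} [Group H] (φ : D.group K →* H) {r s : Rt D}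
    (h : s ≠ r.rev) : ∃ (P : Subgroup H) (j : ℕ), Nat.card P = p ^ j ∧
      ∀ q, (q = r ∨ q = s ∨ Between C r s q) → ∀ t, φ ⟨C.X K q t, C.X_mem_group q t⟩ ∈ P := by
  obtain ⟨M, hr, hs⟩ := exists_word_pos C r s h
  set g : D.group K := ⟨C.wprod K M, C.monomial_le_group (C.wprod_mem_monomial M)⟩ with hg
  set U : Subgroup (D.group K) :=
    ((C.US K C.Pos).subgroupOf (D.group K)).map (MulAut.conj g⁻¹).toMonoidHom with hU
  have hUcard : Nat.card U = p ^ (e * (D.nroots / 2)) := by
    rw [pow_mul, ← hK, ← hok.card_posUS K, hU, Subgroup.card_map_of_injective (MulAut.conj g⁻¹).injective]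
    exact Nat.card_congr (Subgroup.subgroupOfEquivOfLe (C.US_le_group _)).toEquiv
  have hdvd : Nat.card (U.map φ) ∣ p ^ (e * (D.nroots / 2)) := hUcard ▸ Subgroup.card_map_dvd U φ
  obtain ⟨j, -, hj⟩ := (Nat.dvd_prime_pow hp.out).1 hdvd
  refine ⟨U.map φ, j, hj, fun q hq t => Subgroup.mem_map_of_mem φ ?_⟩
  have hpos : C.pprod M q ∈ C.Pos := by
    rcases hq with rfl | rfl | hb
    · exact hr
    · exact hs
    · exact pos_between C hr hs hb
  obtain ⟨c, hc⟩ := C.wprod_X K M q
  refine ⟨g * ⟨C.X K q t, C.X_mem_group q t⟩ * g⁻¹, ?_, ?_⟩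
  · rw [SetLike.mem_coe, Subgroup.mem_subgroupOf]
    show C.wprod K M * C.X K q t * (C.wprod K M)⁻¹ ∈ C.US K C.Pos
    rw [hc t]
    exact C.X_mem_US K hpos _
  · rw [MulEquiv.coe_toMonoidHom, MulAut.conj_apply]
    group

/-- Projective representations in the natural characteristic lift. -/
theorem exists_lift {e : ℕ} (hK : Nat.card K = p ^ e) {T : Tree C} (cert : CurtisTits.Cert C T) (hs : SuppOne C)
    (hP : commutator (D.SteinbergCover K) = ⊤)
    (φ : ↥(D.group K) →* GL (Fin n) L ⧸ Subgroup.center (GL (Fin n) L)) :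
    ∃ ψ : D.SteinbergCover K →* GL (Fin n) L, (mk L n).comp ψ = φ.comp (coverMap cert hs) := by
  classical
  have hG : commutator (D.group K) = ⊤ := by
    have h := congrArg (Subgroup.map (coverMap (K := K) cert hs)) hP
    rwa [_root_.commutator_def, Subgroup.map_commutator,
      Subgroup.map_top_of_surjective _ (coverMap_surj cert hs), ← _root_.commutator_def] at h
  let x : Rt D → K → D.group K := fun r t => ⟨C.X K r t, C.X_mem_group r t⟩
  have hex : ∀ r t, ∃ y, mk L n y = φ (x r t) ∧ PEl p y := by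
    intro r t
    obtain ⟨P, j, hj, hmem⟩ := exists_pgroup C cert.hyp.ok hK φ (r := r) (s := r) (C.ne_rev r).symm
    have hxP := hmem r (Or.inl rfl) t
    have : x r t ∈ commutator (D.group K) := hG.symm ▸ Subgroup.mem_top _
    have h2 : φ (x r t) ∈ (commutator (GL (Fin n) L)).map (mk L n) := by
      rw [_root_.commutator_def, Subgroup.map_commutator,
        Subgroup.map_top_of_surjective _ (QuotientGroup.mk'_surjective _), ← _root_.commutator_def]
      have := Subgroup.mem_map_of_mem φ this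
      rw [_root_.commutator_def, Subgroup.map_commutator] at this
      exact Subgroup.commutator_mono le_top le_top this
    obtain ⟨y, hy, hy'⟩ := h2
    have hd : Matrix.GeneralLinearGroup.det y = 1 :=
      MonoidHom.mem_ker.1 (Abelianization.commutator_subset_ker _ hy)
    obtain ⟨y', h1, h2⟩ := exists_pel (p := p) hd (k := j) (by
      rw [hy', ← hj]; exact congrArg Subtype.val (pow_card_eq_one' (x := (⟨_, hxP⟩ : P))))
    exact ⟨y', h1.trans hy', h2⟩
  choose y hy hyp using hex
  have hX := cert.hyp.ok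
  have hrels : ∀ g ∈ D.steinbergRelsAB K,
      FreeGroup.lift (fun z : Fin D.nroots × K => y z.1 z.2) g = 1 := by
    rintro g (⟨r, t₁, t₂, hr, rfl⟩ | ⟨r, s, t, u, hr, hsn, hsr, hneg, rfl⟩)
    · lift r to Rt D using hr
      simp only [ChevalleyDatum.stX, dif_pos r.isLt, map_mul, map_inv, FreeGroup.lift_apply_of, Fin.eta]
      rw [mul_inv_eq_one]
      obtain ⟨P, j, hj, hmem⟩ := exists_pgroup C cert.hyp.ok hK φ (r := r) (s := r) (C.ne_rev r).symm
      have hm : ∀ t, mk L n (y r t) ∈ P := fun t => by rw [hy]; exact hmem r (Or.inl rfl) t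
      refine pel_unique (p := p) ?_ (pel_mul P hj (hm _) (hm _) (hyp _ _) (hyp _ _)) (hyp _ _)
      rw [map_mul, hy, hy, hy, ← map_mul]
      exact congrArg φ (Subtype.ext (C.X_add K r t₁ t₂))
    · lift r to Rt D using hr
      lift s to Rt D using hsn
      have h0 : s ≠ r := fun e => hsr (congrArg Fin.val e)
      have h1 : s ≠ r.rev := fun e => hneg (by rw [e, CurtisTits.neg_val C cert.hyp r])
      have e1 : FreeGroup.lift (fun z : Fin D.nroots × K => y z.1 z.2)
          (D.stWord (D.commWord K r.val s.val t u)) = evalT y t u (terms r s) := by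
        rw [commWord_eq hX r s h0 h1]
        simp only [ChevalleyDatum.stWord, map_list_prod, List.map_map, evalT]
        congr 1
        refine List.map_congr_left fun e _ => ?_
        simp only [Function.comp_apply, ChevalleyDatum.stX, dif_pos e.1.isLt, FreeGroup.lift_apply_of, Fin.eta]
      simp only [map_mul, map_inv, e1, ChevalleyDatum.stX, dif_pos r.isLt, dif_pos s.isLt,
        FreeGroup.lift_apply_of, Fin.eta]
      rw [mul_inv_eq_one]
      obtain ⟨P, j, hj, hmem⟩ := exists_pgroup C cert.hyp.ok hK φ h1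
      have key : ∀ q, (q = r ∨ q = s ∨ Between C r s q) → ∀ w, mk L n (y q w) ∈ P := fun q hq w => by
        rw [hy]; exact hmem q hq w
      have mulP : ∀ a b, (mk L n a ∈ P ∧ PEl p a) → (mk L n b ∈ P ∧ PEl p b) → mk L n (a * b) ∈ P ∧ PEl p (a * b) :=
        fun a b ha hb => ⟨by rw [map_mul]; exact mul_mem ha.1 hb.1, pel_mul P hj ha.1 hb.1 ha.2 hb.2⟩
      have invP : ∀ a, (mk L n a ∈ P ∧ PEl p a) → mk L n a⁻¹ ∈ P ∧ PEl p a⁻¹ := fun a ha =>
        ⟨by rw [map_inv]; exact inv_mem ha.1, by obtain ⟨k, hk⟩ := ha.2; exact ⟨k, by rw [inv_pow, hk, inv_one]⟩⟩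
      have kr := fun w => (⟨key r (Or.inl rfl) w, hyp r w⟩ : mk L n (y r w) ∈ P ∧ PEl p (y r w))
      have ks := fun w => (⟨key s (Or.inr (Or.inl rfl)) w, hyp s w⟩ : mk L n (y s w) ∈ P ∧ PEl p (y s w))
      have hev : mk L n (evalT y t u (terms r s)) ∈ P ∧ PEl p (evalT y t u (terms r s)) := by
        have aux : ∀ l : List (Term D), (∀ e ∈ l, e ∈ terms r s) →
            mk L n (evalT y t u l) ∈ P ∧ PEl p (evalT y t u l) := by
          intro l
          induction l with
          | nil => intro _; exact ⟨by simp [evalT], by simpa [evalT] using pel_one⟩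
          | cons e l ih =>
            intro hl
            have : evalT y t u (e :: l) = y e.1 ((e.2.1 : K) * (-t) ^ e.2.2.1 * u ^ e.2.2.2) * evalT y t u l := by
              simp [evalT]
            rw [this]
            exact mulP _ _ ⟨key _ (Or.inr (Or.inr (terms_between hX h0 h1 (hl e (List.mem_cons_self))))) _,
              hyp _ _⟩ (ih fun x hx => hl x (List.mem_cons_of_mem _ hx))
        exact aux _ fun _ h => h
      refine pel_unique (p := p) ?_ (mulP _ _ (mulP _ _ (mulP _ _ (invP _ (ks u)) (invP _ (kr t))) (ks u)) (kr t)).2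
        hev.2
      have e2 : φ ((x s u)⁻¹ * (x r t)⁻¹ * x s u * x r t) = φ (evalT x t u (terms r s)) := by
        congr 1
        refine Subtype.ext ?_
        show (C.X K s u)⁻¹ * (C.X K r t)⁻¹ * C.X K s u * C.X K r t = (D.group K).subtype (evalT x t u (terms r s))
        rw [evalT_map]
        exact X_comm C hX r s h0 h1 t u
      rw [evalT_map, map_mul, map_mul, map_mul, map_inv, map_inv, hy, hy]
      rw [evalT_map, map_mul, map_mul, map_mul, map_inv, map_inv] at e2
      rw [e2]
      simp only [hy]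
  refine ⟨PresentedGroup.toGroup hrels, PresentedGroup.ext fun ⟨r, t⟩ => ?_⟩
  rw [MonoidHom.comp_apply, PresentedGroup.toGroup.of, hy, MonoidHom.comp_apply, ← scGen_of]
  exact congrArg φ (Subtype.ext (coverMap_gen cert hs r t).symm)

end Cfsg.Agent.Lib.ProjLift
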