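import Mathlib

/-!
In characteristic `p` the elements of `p`-power order of a projective linear group that lift to determinant one
have unique lifts of `p`-power order, and these multiply inside a finite `p`-subgroup.
-/

set_option autoImplicit false
set_option linter.unusedSectionVars false

namespace Cfsg.Agent.Lib.ProjLift

open Matrix

variable {L : Type*} [Field L] {p : ℕ} [hp : Fact p.Prime] [CharP L p] {n : ℕ}

/-- The order is a power of `p`. -/
def PEl (p : ℕ) {G : Type*} [Monoid G] (y : G) : Prop := ∃ k, y ^ (p ^ k) = 1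

theorem pel_one {G : Type*} [Monoid G] : PEl p (1 : G) := ⟨0, one_pow _⟩

theorem PEl.pow_le {G : Type*} [Monoid G] {y : G} {k K : ℕ} (h : y ^ (p ^ k) = 1) (hK : k ≤ K) :
    y ^ (p ^ K) = 1 := by
  obtain ⟨d, rfl⟩ := Nat.exists_eq_add_of_le hK
  rw [pow_add, pow_mul, h, one_pow]

omit hp in
theorem eq_one_of_pow_char [Fact p.Prime] {u : Lˣ} {k : ℕ} (h : u ^ (p ^ k) = 1) : u = 1 := by
  have h' : ((u : L) - 1) ^ (p ^ k) = 0 := by
    rw [sub_pow_char_pow, one_pow, ← Units.val_pow_eq_pow_val, h, Units.val_one, sub_self]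
  exact Units.ext (sub_eq_zero.1 (pow_eq_zero_iff (pow_ne_zero k (Fact.out : p.Prime).ne_zero) |>.1 h'))

theorem central_pel {z : GL (Fin n) L} (hz : z ∈ Subgroup.center (GL (Fin n) L)) (h : PEl p z) : z = 1 := by
  rcases Nat.eq_zero_or_pos n with rfl | hn
  · exact Subsingleton.elim _ _
  rw [GeneralLinearGroup.center_eq_range_scalar] at hz
  obtain ⟨u, rfl⟩ := hz
  obtain ⟨k, hk⟩ := h
  rw [← map_pow] at hk
  have : u ^ (p ^ k) = 1 := by
    refine Units.ext ?_
    have := congrFun (congrFun (congrArg (fun g : GL (Fin n) L => (g : Matrix (Fin n) (Fin n) L)) hk) ⟨0, hn⟩) ⟨0, hn⟩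
    simpa [GeneralLinearGroup.scalar, Matrix.diagonal_pow] using this
  rw [eq_one_of_pow_char this, map_one]

/-- The projection. -/
abbrev mk (L : Type*) [Field L] (n : ℕ) : GL (Fin n) L →* GL (Fin n) L ⧸ Subgroup.center (GL (Fin n) L) :=
  QuotientGroup.mk' _

theorem pel_unique {y y' : GL (Fin n) L} (h : mk L n y = mk L n y') (hy : PEl p y) (hy' : PEl p y') :
    y = y' := by
  set z := y⁻¹ * y' with hzdef
  have hz : z ∈ Subgroup.center (GL (Fin n) L) := QuotientGroup.eq.1 h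
  obtain ⟨a, ha⟩ := hy
  obtain ⟨b, hb⟩ := hy'
  have hpow : y' ^ (p ^ (a + b)) = y ^ (p ^ (a + b)) * z ^ (p ^ (a + b)) := by
    rw [show y' = y * z by rw [hzdef, mul_inv_cancel_left]]
    exact (show Commute y z from Subgroup.mem_center_iff.1 hz y).mul_pow _
  rw [PEl.pow_le hb (by omega), PEl.pow_le ha (by omega), one_mul] at hpow
  exact inv_mul_eq_one.1 (central_pel hz ⟨_, hpow.symm⟩)

theorem exists_pel {y : GL (Fin n) L} (hdet : GeneralLinearGroup.det y = 1) {k : ℕ}
    (h : mk L n y ^ (p ^ k) = 1) : ∃ y', mk L n y' = mk L n y ∧ PEl p y' := by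
  rcases Nat.eq_zero_or_pos n with rfl | hn
  · exact ⟨y, rfl, 0, Subsingleton.elim _ _⟩
  set z := y ^ (p ^ k) with hzdef
  have hz : z ∈ Subgroup.center (GL (Fin n) L) := by
    rw [← map_pow, QuotientGroup.mk'_apply, QuotientGroup.eq_one_iff] at h
    exact h
  have hzn : z ^ n = 1 := by
    have hz' := hz
    rw [GeneralLinearGroup.center_eq_range_scalar] at hz'
    obtain ⟨u, hu⟩ := hz'
    have e : GeneralLinearGroup.det z = 1 := by rw [hzdef, map_pow, hdet, one_pow]
    rw [← hu, GeneralLinearGroup.det_scalar, Fintype.card_fin] at e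
    rw [← hu, ← map_pow, e, map_one]
  have hfin : IsOfFinOrder z := isOfFinOrder_iff_pow_eq_one.2 ⟨n, hn, hzn⟩
  have hcop : (p ^ k).Coprime (orderOf z) := by
    refine Nat.Coprime.pow_left k ((Fact.out : p.Prime).coprime_iff_not_dvd.2 fun hd => ?_)
    obtain ⟨d, hd'⟩ := hd
    have h1 : z ^ d = 1 := central_pel (p := p) (pow_mem hz d)
      ⟨1, by rw [← pow_mul, pow_one, mul_comm, ← hd', pow_orderOf_eq_one]⟩
    have h2 := Nat.le_of_dvd (Nat.pos_of_ne_zero fun e => by
      rw [e, mul_zero] at hd'; exact hfin.orderOf_pos.ne' hd') (orderOf_dvd_of_pow_eq_one h1)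
    have h3 : 2 ≤ p := (Fact.out : p.Prime).two_le
    have h4 : 0 < d := Nat.pos_of_ne_zero fun e => by rw [e, mul_zero] at hd'; exact hfin.orderOf_pos.ne' hd'
    rw [hd'] at h2
    nlinarith
  obtain ⟨m, hm⟩ := exists_pow_eq_self_of_coprime hcop
  refine ⟨y * (z ^ m)⁻¹, ?_, k, ?_⟩
  · rw [map_mul, map_inv, show mk L n (z ^ m) = 1 from (QuotientGroup.eq_one_iff _).2 (pow_mem hz m), inv_one,
      mul_one]
  · rw [(show Commute y (z ^ m)⁻¹ from Subgroup.mem_center_iff.1 (inv_mem (pow_mem hz m)) y).mul_pow, ← hzdef,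
      inv_pow, ← pow_mul, mul_comm m, pow_mul, hm, mul_inv_cancel]

theorem pel_mul (P : Subgroup (GL (Fin n) L ⧸ Subgroup.center (GL (Fin n) L))) {j : ℕ}
    (hP : Nat.card P = p ^ j) {a b : GL (Fin n) L} (ha : mk L n a ∈ P) (hb : mk L n b ∈ P) (hap : PEl p a)
    (hbp : PEl p b) : PEl p (a * b) := by
  set D := P.comap (mk L n) with hD
  let f : D →* P := ((mk L n).comp D.subtype).codRestrict P fun x => x.2
  have hf : Function.Surjective f := by
    rintro ⟨x, hx⟩
    obtain ⟨y, rfl⟩ := QuotientGroup.mk'_surjective _ x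
    exact ⟨⟨y, hx⟩, rfl⟩
  have hker : f.ker ≤ Subgroup.center D := by
    intro x hx
    refine Subgroup.mem_center_iff.2 fun y => Subtype.ext ?_
    have : (x : GL (Fin n) L) ∈ Subgroup.center (GL (Fin n) L) :=
      (QuotientGroup.eq_one_iff _).1 (congrArg Subtype.val (MonoidHom.mem_ker.1 hx))
    exact Subgroup.mem_center_iff.1 this y
  have hidx : f.ker.index = p ^ j := by
    rw [Subgroup.index_ker, MonoidHom.range_eq_top.2 hf, ← hP]
    exact Nat.card_congr Subgroup.topEquiv.toEquiv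
  have hdvd := Subgroup.index_dvd_of_le hker
  rw [hidx] at hdvd
  obtain ⟨i, -, hi⟩ := (Nat.dvd_prime_pow (Fact.out : p.Prime)).1 hdvd
  have : (Subgroup.center D).FiniteIndex := ⟨by rw [hi]; exact pow_ne_zero _ (Fact.out : p.Prime).ne_zero⟩
  have hm := congrArg Subtype.val (map_mul (MonoidHom.transferCenterPow D) ⟨a, ha⟩ ⟨b, hb⟩)
  rw [Subgroup.coe_mul, MonoidHom.transferCenterPow_apply, MonoidHom.transferCenterPow_apply,
    MonoidHom.transferCenterPow_apply, hi] at hm
  have hm' : (a * b) ^ (p ^ i) = a ^ (p ^ i) * b ^ (p ^ i) := congrArg Subtype.val hm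
  obtain ⟨ka, hka⟩ := hap
  obtain ⟨kb, hkb⟩ := hbp
  refine ⟨i + ka + kb, ?_⟩
  have hc : Commute (a ^ (p ^ i)) (b ^ (p ^ i)) := by
    have h1 : (⟨a, ha⟩ : D) ^ (p ^ i) ∈ Subgroup.center D := hi ▸ (Subgroup.center D).pow_index_mem _
    exact (congrArg Subtype.val (Subgroup.mem_center_iff.1 h1 ((⟨b, hb⟩ : D) ^ (p ^ i)))).symm
  rw [show p ^ (i + ka + kb) = p ^ i * p ^ (ka + kb) by rw [← pow_add, add_assoc], pow_mul, hm', hc.mul_pow,
    ← pow_mul, ← pow_mul, ← pow_add, PEl.pow_le hka (by omega), PEl.pow_le hkb (by omega), one_mul]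

end Cfsg.Agent.Lib.ProjLift
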